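import Groth.Prelude.Def_Algz
import Mathlib.Topology.Specialization
import Mathlib.Order.KrullDimension

/-!
# The distance function `δ_Z`
-/

universe u

open Algz

namespace Groth.Agent.DeltaZ

variable {Y : Type u} [TopologicalSpace Y]

theorem codimPt_congr {w w' v v' : Y} (hw : w = w') (hv : v = v') (h : w ⤳ v) (h' : w' ⤳ v') :
    codimPt w v h = codimPt w' v' h' := by
  subst hw hv; rfl

theorem codimPt_mono {w v v' : Y} (h : w ⤳ v) (hv : v ⤳ v') :
    codimPt w v h ≤ codimPt w v' (h.trans hv) := by
  refine Order.height_le_height_apply_of_strictMono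
    (fun x : Set.Ici (Specialization.toEquiv v) => (⟨x.1, le_trans (Specialization.toEquiv_le_toEquiv.mpr hv) x.2⟩ :
      Set.Ici (Specialization.toEquiv v'))) (fun a b hab => hab) _

theorem codimPt_self (v : Y) (h : v ⤳ v) : codimPt v v h = 0 :=
  Order.height_eq_zero.mpr fun x _ => x.2

theorem one_le_codimPt [T0Space Y] {w v : Y} (h : w ⤳ v) (hne : w ≠ v) : 1 ≤ codimPt w v h := by
  refine Order.one_le_iff_ne_zero.mpr (Order.height_ne_zero.mpr fun hmin => hne ?_)
  have h1 : Specialization.toEquiv w ≤ Specialization.toEquiv v :=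
    hmin (b := ⟨Specialization.toEquiv v, Set.self_mem_Ici⟩) (Specialization.toEquiv_le_toEquiv.mpr h)
  exact (h.antisymm (Specialization.toEquiv_le_toEquiv.mp h1)).eq

theorem codimPt_le_one [T0Space Y] {w v : Y} (h : w ⤳ v)
    (himm : ∀ z : Y, w ⤳ z → z ⤳ v → z = w ∨ z = v) : codimPt w v h ≤ 1 := by
  refine (Order.height_le_coe_iff (n := 1)).mpr fun x hx => ?_
  have hxw : w ⤳ Specialization.ofEquiv x.1 := (le_of_lt hx : x ≤ _)
  have hxv : Specialization.ofEquiv x.1 ⤳ v := x.2
  rcases himm _ hxw hxv with hz | hz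
  · exact absurd (Subtype.ext hz) hx.ne
  · have : Order.height x = 0 := Order.height_eq_zero.mpr fun y _ => by
      change Specialization.ofEquiv x.1 = v at hz
      change x.1 ≤ y.1
      rw [show x.1 = Specialization.toEquiv v from hz]
      exact y.2
    rw [this]; exact Nat.cast_lt.mpr Nat.zero_lt_one

theorem c_eq {Z : Set Y} {y : Y} {k : ℕ} (S : DSystem Z y k) (i : Fin (k + 1)) {w v : Y}
    (hw : S.w i = w) (hv : S.v i = v) (h : w ⤳ v) : S.c i = codimPt w v h :=
  codimPt_congr hw hv _ h

theorem b_eq {Z : Set Y} {y : Y} {k : ℕ} (S : DSystem Z y k) (i : Fin k) {w v : Y}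
    (hw : S.w i.castSucc = w) (hv : S.v i.succ = v) (h : w ⤳ v) : S.b i = codimPt w v h :=
  codimPt_congr hw hv _ h

theorem deltaZ_le_delta {Z : Set Y} {y : Y} {k : ℕ} (S : DSystem Z y k) : deltaZ Z y ≤ S.delta :=
  iInf₂_le k S

theorem delta_le {Z : Set Y} {y : Y} {k : ℕ} (S : DSystem Z y k) (M : ℕ∞)
    (h : ∀ i : Fin (k + 1), (∑ j : Fin (k + 1), if i ≤ j then S.c j else 0) ≤
      M + ∑ j : Fin k, if i.val ≤ j.val then S.b j else 0) : S.delta ≤ k + M := by
  refine add_le_add le_rfl (Finset.sup_le fun i _ => tsub_le_iff_right.mpr ?_)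
  rw [Finset.sum_filter, Finset.sum_filter]
  exact h i

theorem le_delta_term {Z : Set Y} {y : Y} {k : ℕ} (S : DSystem Z y k) :
    ∃ M : ℕ∞, S.delta = k + M ∧ ∀ i : Fin (k + 1), (∑ j : Fin (k + 1), if i ≤ j then S.c j else 0) ≤
      M + ∑ j : Fin k, if i.val ≤ j.val then S.b j else 0 := by
  refine ⟨_, rfl, fun i => ?_⟩
  have h : (∑ j ∈ Finset.univ.filter (fun j : Fin (k + 1) => i ≤ j), S.c j) -
      (∑ j ∈ Finset.univ.filter (fun j : Fin k => i.val ≤ j.val), S.b j) ≤ _ :=
    Finset.le_sup (f := fun i : Fin (k + 1) =>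
      (∑ j ∈ Finset.univ.filter (fun j : Fin (k + 1) => i ≤ j), S.c j) -
      ∑ j ∈ Finset.univ.filter (fun j : Fin k => i.val ≤ j.val), S.b j) (Finset.mem_univ i)
  rw [tsub_le_iff_right] at h
  simpa only [Finset.sum_filter] using h

theorem snoc_spec {P : Y → Y → Prop} {k : ℕ} {w v : Fin (k + 1) → Y} {a b : Y}
    (h : ∀ i, P (w i) (v i)) (hl : P a b) :
    ∀ i, P ((Fin.snoc w a : Fin (k + 2) → Y) i) ((Fin.snoc v b : Fin (k + 2) → Y) i) := by
  intro i
  induction i using Fin.lastCases with
  | last => simpa using hl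
  | cast j => simpa using h j

/-- Extend a system by a point in the closure of its end. -/
def extend {Z : Set Y} {y y' : Y} {k : ℕ} (S : DSystem Z y k) (h : y ⤳ y') : DSystem Z y' (k + 1) where
  v := Fin.snoc S.v y'
  w := Fin.snoc S.w y'
  spec := snoc_spec S.spec (specializes_refl y')
  spec_succ := by
    intro i
    induction i using Fin.lastCases with
    | last =>
      rw [Fin.snoc_castSucc, Fin.succ_last, Fin.snoc_last, S.last_eq]
      exact h
    | cast j =>
      rw [Fin.snoc_castSucc, Fin.succ_castSucc, Fin.snoc_castSucc]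
      exact S.spec_succ j
  start_mem := by
    rw [show (0 : Fin (k + 2)) = Fin.castSucc 0 from rfl, Fin.snoc_castSucc]
    exact S.start_mem
  last_eq := Fin.snoc_last _ _

section
variable {Z : Set Y} {y y' : Y} {k : ℕ} (S : DSystem Z y k) (h : y ⤳ y') (j : Fin (k + 1))

theorem extend_w_castSucc : (extend S h).w j.castSucc = S.w j := Fin.snoc_castSucc (α := fun _ => Y) ..
theorem extend_v_castSucc : (extend S h).v j.castSucc = S.v j := Fin.snoc_castSucc (α := fun _ => Y) ..
theorem extend_w_last : (extend S h).w (Fin.last (k + 1)) = y' := Fin.snoc_last (α := fun _ => Y) ..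
theorem extend_v_last : (extend S h).v (Fin.last (k + 1)) = y' := Fin.snoc_last (α := fun _ => Y) ..

end

theorem extend_delta_le {Z : Set Y} {y y' : Y} {k : ℕ} (S : DSystem Z y k) (h : y ⤳ y') (M : ℕ∞)
    (hM : ∀ i : Fin (k + 1), (∑ j : Fin (k + 1), if i ≤ j then S.c j else 0) ≤
      M + ∑ j : Fin k, if i.val ≤ j.val then S.b j else 0) :
    (extend S h).delta ≤ (k + 1 : ℕ) + (M - codimPt y y' h) := by
  refine delta_le _ _ fun i => ?_
  have hlast : (extend S h).c (Fin.last (k + 1)) = 0 :=
    (c_eq (extend S h) _ (extend_w_last S h) (extend_v_last S h) (specializes_refl y')).trans (codimPt_self y' _)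
  induction i using Fin.lastCases with
  | last =>
    refine le_of_eq_of_le ?_ bot_le
    refine Finset.sum_eq_zero fun j _ => ?_
    split_ifs with hj
    · rw [Fin.last_le_iff.mp hj]; exact hlast
    · rfl
  | cast i =>
    have hc : ∀ j : Fin (k + 1), (extend S h).c j.castSucc = S.c j := fun j =>
      c_eq (extend S h) _ (extend_w_castSucc S h j) (extend_v_castSucc S h j) _
    have hb : ∀ j : Fin k, (extend S h).b j.castSucc = S.b j := fun j =>
      b_eq (extend S h) _ (extend_w_castSucc S h _)
        ((congrArg _ (Fin.succ_castSucc j)).trans (extend_v_castSucc S h _)) _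
    have hbl : (extend S h).b (Fin.last k) = codimPt y y' h :=
      b_eq (extend S h) _ ((extend_w_castSucc S h _).trans S.last_eq)
        ((congrArg _ (Fin.succ_last k)).trans (extend_v_last S h)) _
    rw [Fin.sum_univ_castSucc (n := k + 1)]
    conv_rhs => rw [Fin.sum_univ_castSucc (n := k)]
    simp only [hc, hb, hbl, hlast, Fin.castSucc_le_castSucc_iff, Fin.val_castSucc, ite_self, add_zero,
      Fin.val_last, Fin.is_le, if_true]
    calc _ ≤ M + ∑ j : Fin k, (if i.val ≤ j.val then S.b j else 0) := hM i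
      _ ≤ (M - codimPt y y' h + codimPt y y' h) + _ := add_le_add le_tsub_add le_rfl
      _ = _ := by rw [add_assoc, add_comm (codimPt y y' h)]

theorem deltaZ_anti [T0Space Y] {Z : Set Y} (hZ : IsClosed Z) {y y' : Y} (h : y ⤳ y') :
    deltaZ Z y' ≤ deltaZ Z y := by
  by_cases hne : y = y'
  · rw [hne]
  refine le_iInf₂ fun k S => ?_
  obtain ⟨M, hM, hterm⟩ := le_delta_term S
  rw [hM]
  by_cases hM1 : 1 ≤ M
  · refine (deltaZ_le_delta _).trans ((extend_delta_le S h M hterm).trans ?_)
    calc ((k + 1 : ℕ) : ℕ∞) + (M - codimPt y y' h) ≤ ((k + 1 : ℕ) : ℕ∞) + (M - 1) :=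
          add_le_add le_rfl (tsub_le_tsub_left (one_le_codimPt h hne) _)
      _ = k + M := by
          rw [Nat.cast_add, Nat.cast_one, add_assoc, add_comm 1, tsub_add_cancel_of_le hM1]
  -- the last codimension vanishes: replace the last closed set
  have hM0 : M = 0 := by simpa [Order.one_le_iff_ne_zero] using hM1
  have hc : S.c (Fin.last k) = 0 := by
    have := hterm (Fin.last k)
    rw [hM0, zero_add] at this
    refine nonpos_iff_eq_zero.mp (le_trans ?_ (this.trans (le_of_eq ?_)))
    · refine le_of_eq_of_le (by simp) (Finset.single_le_sum (fun _ _ => zero_le) (Finset.mem_univ (Fin.last k)))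
    · exact Finset.sum_eq_zero fun j _ => if_neg (by simp [Fin.val_last])
  have hvy : S.v (Fin.last k) = y := by
    refine Eq.trans ?_ S.last_eq
    by_contra hne'
    have : 1 ≤ S.c (Fin.last k) := one_le_codimPt (S.spec _) (Ne.symm hne')
    rw [hc] at this
    exact not_le.mpr zero_lt_one this
  classical
  let v' := Function.update S.v (Fin.last k) y'
  let w' := Function.update S.w (Fin.last k) y'
  have hv : ∀ i, S.v i ⤳ v' i := fun i => by
    by_cases hi : i = Fin.last k
    · subst hi; simpa [v', hvy] using h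
    · simpa [v', hi] using specializes_refl (S.v i)
  have hw : ∀ i : Fin k, w' i.castSucc = S.w i.castSucc := fun i => by
    simp [w', Fin.castSucc_ne_last i]
  let S' : DSystem Z y' k :=
    { v := v'
      w := w'
      spec := fun i => by
        by_cases hi : i = Fin.last k
        · subst hi; simp [v', w', specializes_refl]
        · simpa [v', w', hi] using S.spec i
      spec_succ := fun i => by rw [hw]; exact (S.spec_succ i).trans (hv _)
      start_mem := (hv 0).mem_closed hZ S.start_mem
      last_eq := by simp [w'] }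
  refine (deltaZ_le_delta S').trans (delta_le S' M fun i => le_trans ?_ ((hterm i).trans ?_))
  · refine Finset.sum_le_sum fun j _ => ?_
    split_ifs
    · by_cases hj : j = Fin.last k
      · subst hj
        exact (le_of_eq ((codimPt_congr (by simp [S', w']) (by simp [S', v']) _ (specializes_refl y')).trans
          (codimPt_self y' _))).trans zero_le
      · exact le_of_eq (codimPt_congr (by simp [S', w', hj]) (by simp [S', v', hj]) _ _)
    · exact le_rfl
  · refine add_le_add le_rfl (Finset.sum_le_sum fun j _ => ?_)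
    split_ifs
    · refine le_trans (codimPt_mono (S.spec_succ j) (hv _)) (le_of_eq ?_)
      exact codimPt_congr (hw j).symm rfl _ _
    · exact le_rfl

theorem deltaZ_le_of_chain [T0Space Y] {Z : Set Y} (k : ℕ) (y : Fin (k + 1) → Y) (y' : Fin k → Y)
    (h0 : y 0 ∈ Z)
    (hdown : ∀ i : Fin k, y' i ⤳ y i.castSucc ∧
      ∀ z : Y, y' i ⤳ z → z ⤳ y i.castSucc → z = y' i ∨ z = y i.castSucc)
    (hup : ∀ i : Fin k, y' i ⤳ y i.succ ∧ y' i ≠ y i.succ) : deltaZ Z (y (Fin.last k)) ≤ k := by
  let w : Fin (k + 1) → Y := Fin.snoc y' (y (Fin.last k))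
  let S : DSystem Z (y (Fin.last k)) k :=
    { v := y
      w := w
      spec := fun i => by
        induction i using Fin.lastCases with
        | last => simp [w, specializes_refl]
        | cast j => simpa [w] using (hdown j).1
      spec_succ := fun i => by simpa [w] using (hup i).1
      start_mem := h0
      last_eq := by simp [w] }
  refine (deltaZ_le_delta S).trans (le_of_le_of_eq (delta_le S 0 fun i => ?_) (add_zero _))
  have hlast : S.c (Fin.last k) = 0 :=
    (codimPt_congr (by simp [S, w]) rfl _ (specializes_refl _)).trans (codimPt_self _ _)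
  rw [zero_add, Fin.sum_univ_castSucc, hlast, ite_self, add_zero]
  refine Finset.sum_le_sum fun j _ => ?_
  have hiff : i ≤ j.castSucc ↔ i.val ≤ j.val := Fin.le_iff_val_le_val
  simp only [hiff]
  split_ifs
  · calc S.c j.castSucc = codimPt (y' j) (y j.castSucc) (hdown j).1 :=
          codimPt_congr (by simp [S, w]) rfl _ _
      _ ≤ 1 := codimPt_le_one _ (hdown j).2
      _ ≤ codimPt (y' j) (y j.succ) (hup j).1 := one_le_codimPt _ (hup j).2
      _ = S.b j := codimPt_congr (by simp [S, w]) rfl _ _
  · exact le_rfl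

end Groth.Agent.DeltaZ
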