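import Groth.Agent.DeltaZ.DimFun
import Groth.Prelude.Def_Found
import Mathlib.AlgebraicGeometry.Stalk
import Mathlib.AlgebraicGeometry.Properties
import Mathlib.RingTheory.Spectrum.Prime.Topology
import Mathlib.RingTheory.KrullDimension.Basic
import Mathlib.RingTheory.Ideal.Quotient.Operations

/-!
# `δ_Z` on spectra
-/

universe u

open Algz AlgebraicGeometry

namespace Groth.Agent.DeltaZ

variable {A : Type u} [CommRing A]

theorem ringKrullDim_quotient_eq_coheight (p : PrimeSpectrum A) :
    ringKrullDim (A ⧸ p.asIdeal) = (Order.coheight p : WithBot ℕ∞) := by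
  rw [ringKrullDim_quotient, Order.coheight_eq_krullDim_Ici]
  rfl

theorem codimPt_eq_coheight [IsLocalRing A] (p : PrimeSpectrum A) (h : p ⤳ IsLocalRing.closedPoint A) :
    codimPt p (IsLocalRing.closedPoint A) h = Order.coheight p := by
  let e : Set.Ici (Specialization.toEquiv (IsLocalRing.closedPoint A)) ≃o (PrimeSpectrum A)ᵒᵈ :=
    { toFun := fun x => OrderDual.toDual (Specialization.ofEquiv x.1)
      invFun := fun x => ⟨Specialization.toEquiv (OrderDual.ofDual x),
        (PrimeSpectrum.le_iff_specializes _ _).mp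
          (IsLocalRing.le_maximalIdeal (OrderDual.ofDual x).isPrime.ne_top)⟩
      left_inv := fun _ => rfl
      right_inv := fun _ => rfl
      map_rel_iff' := fun {a b} => (PrimeSpectrum.le_iff_specializes _ _) }
  rw [← Order.height_toDual]
  exact (Order.height_orderIso e ⟨Specialization.toEquiv p, h⟩).symm

theorem coheight_lt_top_of_catenary [IsLocalRing A] (hA : CAlg.IsCatenary A) (p : PrimeSpectrum A) :
    Order.coheight p < ⊤ := by
  obtain ⟨n, hn⟩ := hA.1 p (IsLocalRing.closedPoint A) (IsLocalRing.le_maximalIdeal p.isPrime.ne_top)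
  refine lt_of_le_of_lt (Order.coheight_le fun s hs => ?_ : Order.coheight p ≤ (n : ℕ∞)) (ENat.coe_lt_top n)
  by_cases hl : s.last = IsLocalRing.closedPoint A
  · exact_mod_cast hn s hs hl
  · have hlt : s.last < IsLocalRing.closedPoint A :=
      lt_of_le_of_ne (IsLocalRing.le_maximalIdeal s.last.isPrime.ne_top) hl
    have := hn (s.snoc _ hlt) (by simp [hs]) (by simp)
    rw [RelSeries.snoc_length] at this
    exact_mod_cast (Nat.le_succ _).trans this

/-- A chain of maximal length from `p` to the closed point is saturated. -/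
theorem exists_saturated [IsLocalRing A] (hA : CAlg.IsCatenary A) (p : PrimeSpectrum A) :
    ∃ s : LTSeries (PrimeSpectrum A), s.head = p ∧ s.last = IsLocalRing.closedPoint A ∧
      (s.length : ℕ∞) = Order.coheight p ∧
      ∀ i : Fin s.length, s (Fin.castSucc i) ⋖ s (Fin.succ i) := by
  obtain ⟨n, hn⟩ := ENat.ne_top_iff_exists.mp (coheight_lt_top_of_catenary hA p).ne
  obtain ⟨s, hs, hsn⟩ := Order.exists_series_of_coheight_eq_coe p hn.symm
  have hlen : (s.length : ℕ∞) = Order.coheight p := by rw [hsn, hn]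
  refine ⟨s, hs, ?_, hlen, fun i => ⟨s.step i, fun z hz1 hz2 => ?_⟩⟩
  · by_contra hl
    have hlt : s.last < IsLocalRing.closedPoint A :=
      lt_of_le_of_ne (IsLocalRing.le_maximalIdeal s.last.isPrime.ne_top) hl
    have := Order.length_le_coheight (p := s.snoc _ hlt) (x := p) (by simp [hs])
    rw [← hn, RelSeries.snoc_length, Nat.cast_le] at this
    omega
  · have h := Order.coheight_eq_index_of_length_eq_head_coheight
      (p := s) (by rw [hs, hlen])
    have h1 := h i.castSucc
    have h2 := h i.succ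
    have h3 := Order.coheight_add_one_le hz1
    have h4 := Order.coheight_add_one_le hz2
    rw [h1] at h3
    rw [h2] at h4
    have h5 : ((i.succ.rev : ℕ) : ℕ∞) + 1 + 1 ≤ ((i.castSucc.rev : ℕ) : ℕ∞) :=
      (add_le_add h4 le_rfl).trans h3
    replace h5 : (i.succ.rev : ℕ) + 1 + 1 ≤ (i.castSucc.rev : ℕ) := by exact_mod_cast h5
    simp only [Fin.val_rev, Fin.val_castSucc, Fin.val_succ] at h5
    omega

theorem dimFun_coheight [IsLocalRing A] (hA : CAlg.IsCatenary A) :
    ∀ x y : PrimeSpectrum A, x ⤳ y → x ≠ y →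
      ((Order.coheight y).toNat : ℤ) < (Order.coheight x).toNat ∧
        ((∀ z, x ⤳ z → z ⤳ y → z = x ∨ z = y) →
          ((Order.coheight x).toNat : ℤ) = (Order.coheight y).toNat + 1) := by
  intro x y hxy hne
  have hlt : x < y := lt_of_le_of_ne ((PrimeSpectrum.le_iff_specializes _ _).mpr hxy) hne
  obtain ⟨s, hs1, hs2, hs3, hs4⟩ := exists_saturated hA x
  obtain ⟨t, ht1, ht2, ht3, ht4⟩ := exists_saturated hA y
  rw [← hs3, ← ht3, ENat.toNat_natCast, ENat.toNat_natCast, Nat.cast_lt]
  constructor
  · have h := Order.coheight_add_one_le hlt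
    rw [← hs3, ← ht3, ← Nat.cast_one, ← Nat.cast_add, Nat.cast_le] at h
    omega
  · intro himm
    have hcov : x ⋖ y := ⟨hlt, fun z h1 h2 => by
      rcases himm z ((PrimeSpectrum.le_iff_specializes _ _).mp h1.le)
        ((PrimeSpectrum.le_iff_specializes _ _).mp h2.le) with rfl | rfl
      · exact lt_irrefl _ h1
      · exact lt_irrefl _ h2⟩
    have hcov' : ∀ i : Fin (t.length + 1), (Fin.cons x t.toFun : Fin (t.length + 2) → _) i.castSucc ⋖
        (Fin.cons x t.toFun : Fin (t.length + 2) → _) i.succ := fun i => by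
      induction i using Fin.cases with
      | zero => simpa [show t.toFun 0 = y from ht1] using hcov
      | succ j => simpa [← Fin.succ_castSucc] using ht4 j
    let t' : LTSeries (PrimeSpectrum A) :=
      { length := t.length + 1, toFun := Fin.cons x t.toFun, step := fun i => (hcov' i).lt }
    have key := hA.2 s t' (hs1.trans (by simp [t', RelSeries.head]))
      (by rw [hs2, ← ht2]; simp [t', RelSeries.last, ← Fin.succ_last]) hs4 hcov'
    rw [key]
    push_cast [t']
    rfl

theorem deltaZ_closedPoint [IsLocalRing A] (hA : CAlg.IsCatenary A) (p : PrimeSpectrum A) :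
    deltaZ ({IsLocalRing.closedPoint A} : Set (PrimeSpectrum A)) p = Order.coheight p := by
  have h : p ⤳ IsLocalRing.closedPoint A :=
    (PrimeSpectrum.le_iff_specializes _ _).mp (IsLocalRing.le_maximalIdeal p.isPrime.ne_top)
  have hle : deltaZ ({IsLocalRing.closedPoint A} : Set (PrimeSpectrum A)) p ≤ Order.coheight p :=
    (deltaZ_le_codimPt (Z := ({IsLocalRing.closedPoint A} : Set (PrimeSpectrum A))) h (Set.mem_singleton _)).trans (codimPt_eq_coheight p h).le
  refine le_antisymm hle ?_
  have hfin := coheight_lt_top_of_catenary hA p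
  obtain ⟨n, hn⟩ := ENat.ne_top_iff_exists.mp (lt_of_le_of_lt hle hfin).ne
  obtain ⟨z, hz, hz'⟩ := dimFun_le (fun q => ((Order.coheight q).toNat : ℤ)) (dimFun_coheight hA) p n hn.symm
  rw [Set.mem_singleton_iff] at hz
  have hm : Order.coheight (IsLocalRing.closedPoint A) = 0 :=
    Order.coheight_eq_zero.mpr fun q _ => IsLocalRing.le_maximalIdeal q.isPrime.ne_top
  simp only [hz, hm, ENat.toNat_zero, Nat.cast_zero, add_zero, Nat.cast_le] at hz'
  rw [← hn, ← ENat.natCast_toNat hfin.ne]
  exact Nat.cast_le.mpr hz'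

theorem deltaZ_le_ringKrullDim {Y : Scheme.{u}} {Z : Set Y} {y z : Y} (h : y ⤳ z) (hz : z ∈ Z)
    (P : PrimeSpectrum (Y.presheaf.stalk z)) (hP : (Y.fromSpecStalk z).base P = y) :
    ((deltaZ Z y : ℕ∞) : WithBot ℕ∞) ≤ ringKrullDim (↥(Y.presheaf.stalk z) ⧸ P.asIdeal) := by
  rw [ringKrullDim_quotient_eq_coheight, WithBot.coe_le_coe]
  let g : PrimeSpectrum (Y.presheaf.stalk z) → Y := fun Q => (Y.fromSpecStalk z).base Q
  have hg : Topology.IsEmbedding g := (Y.fromSpecStalk z).isEmbedding
  have hrange : Set.range g = {a | a ⤳ z} := Scheme.range_fromSpecStalk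
  refine (deltaZ_le_codimPt h hz).trans ?_
  have hclosed : g (IsLocalRing.closedPoint (Y.presheaf.stalk z)) = z := Scheme.fromSpecStalk_closedPoint
  have hspec : P ⤳ IsLocalRing.closedPoint (Y.presheaf.stalk z) :=
    (PrimeSpectrum.le_iff_specializes _ _).mp (IsLocalRing.le_maximalIdeal P.isPrime.ne_top)
  rw [← codimPt_eq_coheight P hspec, ← codimPt_map g hg.isInducing hg.injective ?_ hspec
    (hg.isInducing.specializes_iff.mpr hspec), codimPt_congr hP hclosed _ h]
  intro x a ha
  rw [hrange]
  exact ha.trans (hrange.subset ⟨x, rfl⟩)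

end Groth.Agent.DeltaZ
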