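import Groth.Agent.DeltaZ.Basic

/-!
# `δ_Z` and dimension functions; change of space
-/

universe u

open Algz

namespace Groth.Agent.DeltaZ

variable {Y : Type u} [TopologicalSpace Y]

theorem codimPt_eq_of_dimFun [T0Space Y] (δ : Y → ℤ)
    (hδ : ∀ x y : Y, x ⤳ y → x ≠ y →
      δ y < δ x ∧ ((∀ z : Y, x ⤳ z → z ⤳ y → z = x ∨ z = y) → δ x = δ y + 1))
    {w v : Y} (h : w ⤳ v) : codimPt w v h = ((δ w - δ v).toNat : ℕ∞) ∧ δ v ≤ δ w := by
  have hle : ∀ a b : Y, a ⤳ b → δ b ≤ δ a := fun a b hab => by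
    by_cases hne : a = b
    · rw [hne]
    · exact (hδ a b hab hne).1.le
  refine ⟨le_antisymm ?_ ?_, hle w v h⟩
  · let f : Set.Ici (Specialization.toEquiv v) → ℕ := fun x => (δ (Specialization.ofEquiv x.1) - δ v).toNat
    have hf : StrictMono f := by
      intro a b hab
      have h1 : Specialization.ofEquiv b.1 ⤳ Specialization.ofEquiv a.1 := hab.le
      have h2 : Specialization.ofEquiv b.1 ≠ Specialization.ofEquiv a.1 := fun h => hab.ne (Subtype.ext h.symm)
      have h3 := (hδ _ _ h1 h2).1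
      have h4 := hle (Specialization.ofEquiv a.1) v a.2
      simp only [f]
      omega
    exact (Order.height_le_height_apply_of_strictMono f hf _).trans (le_of_eq (Order.height_nat _))
  · suffices H : ∀ (n : ℕ) (w : Y) (h : w ⤳ v), (δ w - δ v).toNat = n → (n : ℕ∞) ≤ codimPt w v h from
      H _ w h rfl
    intro n
    induction n using Nat.strong_induction_on with
    | _ n IH =>
    intro w h hn
    by_cases hwv : w = v
    · subst hwv; simp [show n = 0 by omega]
    -- the proper specialization of `w` above `v` of largest `δ`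
    obtain ⟨z, ⟨hwz, hzv, hzne⟩, hmax⟩ : ∃ z, (w ⤳ z ∧ z ⤳ v ∧ z ≠ w) ∧
        ∀ z', w ⤳ z' → z' ⤳ v → z' ≠ w → δ z' ≤ δ z := by
      obtain ⟨d, ⟨z, hz, rfl⟩, hd⟩ := Int.exists_greatest_of_bdd
        (P := fun d => ∃ z, (w ⤳ z ∧ z ⤳ v ∧ z ≠ w) ∧ δ z = d)
        ⟨δ w, fun d ⟨z, hz, hd⟩ => hd ▸ hle w z hz.1⟩
        ⟨δ v, v, ⟨h, specializes_refl v, Ne.symm hwv⟩, rfl⟩
      exact ⟨z, hz, fun z' h1 h2 h3 => hd _ ⟨z', ⟨h1, h2, h3⟩, rfl⟩⟩
    have hlt := hδ w z hwz hzne.symm
    have heq := hlt.2 fun z' h1 h2 => by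
      by_contra hc
      rw [not_or] at hc
      have h4 := hmax z' h1 (h2.trans hzv) hc.1
      have h5 := (hδ z' z h2 hc.2).1
      omega
    have h6 := hle z v hzv
    have hih := IH ((δ z - δ v).toNat) (by omega) z hzv rfl
    have hlt' : (⟨Specialization.toEquiv z, hzv⟩ : Set.Ici (Specialization.toEquiv v)) <
        ⟨Specialization.toEquiv w, h⟩ :=
      lt_of_le_of_ne hwz fun e => hzne (congrArg Subtype.val e)
    refine le_trans ?_ (Order.height_add_one_le hlt')
    calc (n : ℕ∞) = ((δ z - δ v).toNat : ℕ∞) + 1 := by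
          rw [← Nat.cast_one, ← Nat.cast_add]; congr 1; omega
      _ ≤ _ := add_le_add hih le_rfl

theorem dimFun_le [T0Space Y] {Z : Set Y} (δ : Y → ℤ)
    (hδ : ∀ x y : Y, x ⤳ y → x ≠ y →
      δ y < δ x ∧ ((∀ z : Y, x ⤳ z → z ⤳ y → z = x ∨ z = y) → δ x = δ y + 1))
    (y : Y) (n : ℕ) (hn : deltaZ Z y = n) : ∃ z ∈ Z, δ y ≤ n + δ z := by
  obtain ⟨k, S, hS⟩ : ∃ (k : ℕ) (S : DSystem Z y k), S.delta ≤ n := by
    by_contra! hc
    have : ((n + 1 : ℕ) : ℕ∞) ≤ deltaZ Z y := le_iInf₂ fun k S => by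
      rw [Nat.cast_add, Nat.cast_one]
      exact Order.add_one_le_of_lt (hc k S)
    rw [hn, Nat.cast_le] at this
    omega
  obtain ⟨M, hM, hterm⟩ := le_delta_term S
  have h0 := hterm 0
  simp only [Fin.zero_le, if_true, Fin.val_zero, zero_le] at h0
  have hc := fun i => codimPt_eq_of_dimFun δ hδ (S.spec i)
  have hb := fun i => codimPt_eq_of_dimFun δ hδ (S.spec_succ i)
  simp only [DSystem.c, DSystem.b, (hc _).1, (hb _).1] at h0
  have hMn : M ≤ n := le_trans le_add_self (hM ▸ hS)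
  have h1 := h0.trans (add_le_add hMn le_rfl)
  rw [← Nat.cast_sum, ← Nat.cast_sum, ← Nat.cast_add, Nat.cast_le] at h1
  have h2 : ∑ i, (δ (S.w i) - δ (S.v i)) ≤ (n : ℤ) + ∑ i : Fin k, (δ (S.w i.castSucc) - δ (S.v i.succ)) := by
    calc ∑ i, (δ (S.w i) - δ (S.v i)) = ((∑ i, (δ (S.w i) - δ (S.v i)).toNat : ℕ) : ℤ) := by
          rw [Nat.cast_sum]
          exact Finset.sum_congr rfl fun i _ => (Int.toNat_of_nonneg (sub_nonneg.mpr (hc i).2)).symm
      _ ≤ ((n + ∑ i : Fin k, (δ (S.w i.castSucc) - δ (S.v i.succ)).toNat : ℕ) : ℤ) := by exact_mod_cast h1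
      _ = _ := by
          rw [Nat.cast_add, Nat.cast_sum]
          congr 1
          exact Finset.sum_congr rfl fun i _ => Int.toNat_of_nonneg (sub_nonneg.mpr (hb i).2)
  rw [Finset.sum_sub_distrib, Finset.sum_sub_distrib, Fin.sum_univ_castSucc (f := fun i => δ (S.w i)),
    Fin.sum_univ_succ (f := fun i => δ (S.v i)), S.last_eq] at h2
  exact ⟨S.v 0, S.start_mem, by linarith⟩

/-- Codimension is unchanged by a map inducing the topology whose range is stable under
generalization. -/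
theorem codimPt_map {X : Type u} [TopologicalSpace X] (f : X → Y) (hf : Topology.IsInducing f)
    (hinj : Function.Injective f) (hgen : ∀ x a, a ⤳ f x → a ∈ Set.range f)
    {w v : X} (h : w ⤳ v) (h' : f w ⤳ f v) : codimPt (f w) (f v) h' = codimPt w v h := by
  let g : Set.Ici (Specialization.toEquiv v) → Set.Ici (Specialization.toEquiv (f v)) :=
    fun x => ⟨Specialization.toEquiv (f (Specialization.ofEquiv x.1)), hf.specializes_iff.mpr x.2⟩
  have hg : ∀ a b, g a ≤ g b ↔ a ≤ b := fun a b => hf.specializes_iff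
  have hgi : Function.Injective g := fun a b hab =>
    Subtype.ext (hinj (show f (Specialization.ofEquiv a.1) = f (Specialization.ofEquiv b.1) from congrArg Subtype.val hab))
  have hgs : Function.Surjective g := fun y => by
    obtain ⟨x, hx⟩ := hgen v (Specialization.ofEquiv y.1) y.2
    have hxv : x ⤳ v := hf.specializes_iff.mp (by rw [hx]; exact y.2)
    exact ⟨⟨Specialization.toEquiv x, hxv⟩, Subtype.ext hx⟩
  let e : Set.Ici (Specialization.toEquiv v) ≃o Set.Ici (Specialization.toEquiv (f v)) :=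
    { Equiv.ofBijective g ⟨hgi, hgs⟩ with map_rel_iff' := @fun a b => hg a b }
  exact Order.height_orderIso e ⟨Specialization.toEquiv w, h⟩

theorem deltaZ_map_le {X : Type u} [TopologicalSpace X] (f : X → Y) (hf : Topology.IsInducing f)
    (hinj : Function.Injective f) (hgen : ∀ x a, a ⤳ f x → a ∈ Set.range f) (Z : Set Y) (x : X) :
    deltaZ Z (f x) ≤ deltaZ (f ⁻¹' Z) x := by
  refine le_iInf₂ fun k S => ?_
  let S' : DSystem Z (f x) k :=
    { v := f ∘ S.v
      w := f ∘ S.w
      spec := fun i => hf.specializes_iff.mpr (S.spec i)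
      spec_succ := fun i => hf.specializes_iff.mpr (S.spec_succ i)
      start_mem := S.start_mem
      last_eq := congrArg f S.last_eq }
  refine (deltaZ_le_delta S').trans (le_of_eq ?_)
  have hc : S'.c = S.c := funext fun i => codimPt_map f hf hinj hgen (S.spec i) _
  have hb : S'.b = S.b := funext fun i => codimPt_map f hf hinj hgen (S.spec_succ i) _
  rw [DSystem.delta, DSystem.delta, hc, hb]

theorem deltaZ_le_codimPt {Z : Set Y} {y z : Y} (h : y ⤳ z) (hz : z ∈ Z) :
    deltaZ Z y ≤ codimPt y z h := by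
  let S : DSystem Z y 0 :=
    { v := fun _ => z, w := fun _ => y, spec := fun _ => h, spec_succ := Fin.elim0,
      start_mem := hz, last_eq := rfl }
  refine (deltaZ_le_delta S).trans ((delta_le S (codimPt y z h) fun i => ?_).trans (le_of_eq (by simp)))
  rw [Fin.sum_univ_one, Fin.eq_zero i]
  exact le_of_eq_of_le (if_pos le_rfl) le_self_add

end Groth.Agent.DeltaZ
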